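import Mathlib.GroupTheory.GroupAction.Quotient
import Mathlib.GroupTheory.Index
import Mathlib.GroupTheory.PGroup
import Mathlib.GroupTheory.Perm.Cycle.Basic
import Mathlib.Data.Set.Card
import Mathlib.Algebra.Group.End
import Mathlib.Data.Fintype.Perm
import Mathlib.Data.List.GetD

/-!
Certificates for permutation groups given by image tables of involutions: orbits, order bounds,
membership in point sets, stated for words in the tables.
-/

set_option autoImplicit false
set_option linter.style.haveILetI false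

namespace CfsgLib.RankThreeRecog

open MulAction

/-- The image of a point under a word. -/
noncomputable def ev (T : ℕ → ℕ → ℕ) (w : List ℕ) (u : ℕ) : ℕ :=
  List.rec (fun u => u) (fun i _ ih u => T i (ih u)) w u

/-- The permutation of a word. -/
def wperm {N : ℕ} (σ : ℕ → Equiv.Perm (Fin N)) : List ℕ → Equiv.Perm (Fin N)
  | [] => 1
  | i :: w => σ i * wperm σ w

/-- Whether two words agree on a list of points. -/
noncomputable def sameOn (T : ℕ → ℕ → ℕ) (pts : List ℕ) (w w' : List ℕ) : Bool :=
  pts.all fun u => Nat.beq (ev T w u) (ev T w' u)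

/-- Whether a word fixes a list of points. -/
noncomputable def fixesAll (T : ℕ → ℕ → ℕ) (pts : List ℕ) (w : List ℕ) : Bool :=
  pts.all fun u => Nat.beq (ev T w u) u

/-- The set of a list of points as a number. -/
noncomputable def maskOf (l : List ℕ) : ℕ :=
  List.rec 0 (fun u _ ih => Nat.lor ih (Nat.shiftLeft 1 u)) l

/-- The image of a list of points, as a number. -/
noncomputable def imageMask (T : ℕ → ℕ → ℕ) (w : List ℕ) (l : List ℕ) : ℕ := maskOf (l.map (ev T w))

/-- Points reached from a set, entries being a point, a generator index and an earlier point. -/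
noncomputable def grow (T : ℕ → ℕ → ℕ) (gens : List (List ℕ)) :
    List (ℕ × ℕ × ℕ) → ℕ → Option ℕ :=
  fun es => List.rec (fun m => some m)
    (fun e _ ih m => bif Nat.testBit m e.2.2 && decide (e.2.1 < gens.length) &&
      Nat.beq (ev T (gens.getD e.2.1 []) e.2.2) e.1 then ih (Nat.lor m (Nat.shiftLeft 1 e.1)) else none) es

/-- The number of points below `n` in a mask. -/
noncomputable def maskCount (n m : ℕ) : ℕ := (List.range n).countP fun i => Nat.testBit m i

variable {N : ℕ} {T : ℕ → ℕ → ℕ} {σ : ℕ → Equiv.Perm (Fin N)}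

/-- The tables describe the permutations. -/
def Describes (T : ℕ → ℕ → ℕ) (σ : ℕ → Equiv.Perm (Fin N)) : Prop :=
  ∀ i (u : Fin N), ((σ i u : Fin N) : ℕ) = T i u

theorem ev_cons (i : ℕ) (w : List ℕ) (u : ℕ) : ev T (i :: w) u = T i (ev T w u) := rfl

theorem ev_append (w w' : List ℕ) (u : ℕ) : ev T (w ++ w') u = ev T w (ev T w' u) := by
  induction w with
  | nil => rfl
  | cons i w ih => rw [List.cons_append, ev_cons, ev_cons, ih]

theorem wperm_append (w w' : List ℕ) : wperm σ (w ++ w') = wperm σ w * wperm σ w' := by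
  induction w with
  | nil => simp [wperm]
  | cons i w ih => rw [List.cons_append, wperm, wperm, ih, mul_assoc]

theorem wperm_singleton (i : ℕ) : wperm σ [i] = σ i := by simp [wperm]

theorem wperm_flatten (ws : List (List ℕ)) : wperm σ ws.flatten = (ws.map (wperm σ)).prod := by
  induction ws with
  | nil => rfl
  | cons w ws ih => rw [List.flatten_cons, wperm_append, List.map_cons, List.prod_cons, ih]

theorem wperm_reverse (hi : ∀ i, σ i * σ i = 1) (w : List ℕ) : wperm σ w.reverse = (wperm σ w)⁻¹ := by
  induction w with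
  | nil => simp [wperm]
  | cons i w ih =>
    rw [List.reverse_cons, wperm_append, ih, wperm_singleton, wperm, mul_inv_rev,
      inv_eq_of_mul_eq_one_right (hi i)]

theorem wperm_mem {S : Subgroup (Equiv.Perm (Fin N))} {w : List ℕ} (h : ∀ i ∈ w, σ i ∈ S) :
    wperm σ w ∈ S := by
  induction w with
  | nil => exact one_mem S
  | cons i w ih =>
    exact mul_mem (h i (List.mem_cons_self ..)) (ih fun j hj => h j (List.mem_cons_of_mem _ hj))

theorem ev_eq (hT : Describes T σ) (w : List ℕ) (u : Fin N) : ((wperm σ w u : Fin N) : ℕ) = ev T w u := by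
  induction w with
  | nil => rfl
  | cons i w ih => rw [wperm, Equiv.Perm.mul_apply, hT, ev_cons, ih]

theorem sameOn_spec (hT : Describes T σ) {pts w w' : List ℕ} (h : sameOn T pts w w' = true) (u : Fin N)
    (hu : (u : ℕ) ∈ pts) : wperm σ w u = wperm σ w' u := by
  rw [sameOn, List.all_eq_true] at h
  exact Fin.ext (by rw [ev_eq hT, ev_eq hT]; exact Nat.eq_of_beq_eq_true (h _ hu))

theorem fixesAll_spec (hT : Describes T σ) {pts w : List ℕ} (h : fixesAll T pts w = true) (u : Fin N)
    (hu : (u : ℕ) ∈ pts) : wperm σ w u = u := by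
  rw [fixesAll, List.all_eq_true] at h
  exact Fin.ext (by rw [ev_eq hT]; exact Nat.eq_of_beq_eq_true (h _ hu))

theorem testBit_maskOf (l : List ℕ) (i : ℕ) : Nat.testBit (maskOf l) i = true ↔ i ∈ l := by
  induction l with
  | nil => simp [maskOf]
  | cons u l ih =>
    change Nat.testBit (maskOf l ||| 1 <<< u) i = true ↔ _
    rw [Nat.testBit_or, Bool.or_eq_true, ih, List.mem_cons, Nat.one_shiftLeft, Nat.testBit_two_pow,
      decide_eq_true_eq]
    tauto

theorem testBit_imageMask (hT : Describes T σ) (w : List ℕ) (l : List ℕ) (hl : ∀ u ∈ l, u < N) (x : Fin N) :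
    Nat.testBit (imageMask T w l) x = true ↔ (((wperm σ w)⁻¹ x : Fin N) : ℕ) ∈ l := by
  rw [imageMask, testBit_maskOf, List.mem_map]
  constructor
  · rintro ⟨u, hu, e⟩
    have : wperm σ w ⟨u, hl u hu⟩ = x := Fin.ext (by rw [ev_eq hT]; exact e)
    rw [← this, Equiv.Perm.inv_def, Equiv.symm_apply_apply]
    exact hu
  · intro h
    exact ⟨_, h, by rw [← ev_eq hT]; simp⟩

/-- The points of a mask reached by a growing certificate lie in the orbit. -/
theorem grow_spec (hT : Describes T σ) {gens : List (List ℕ)} {L : Subgroup (Equiv.Perm (Fin N))}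
    (hL : ∀ w ∈ gens, wperm σ w ∈ L) (O : Set (Fin N)) (hO : ∀ g ∈ L, ∀ x ∈ O, g x ∈ O)
    (hN : ∀ i u, u < N → T i u < N) :
    ∀ (es : List (ℕ × ℕ × ℕ)) (m m' : ℕ), grow T gens es m = some m' →
      (∀ i, Nat.testBit m i = true → ∃ x ∈ O, (x : ℕ) = i) →
      ∀ i, Nat.testBit m' i = true → ∃ x ∈ O, (x : ℕ) = i
  | [], m, m', h, hm => by
    obtain rfl : m = m' := Option.some.inj h
    exact hm
  | e :: es, m, m', h, hm => by
    change (bif _ then grow T gens es _ else none) = some m' at h
    rcases hb : (Nat.testBit m e.2.2 && decide (e.2.1 < gens.length) &&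
      Nat.beq (ev T (gens.getD e.2.1 []) e.2.2) e.1) with _ | _
    · rw [hb] at h
      exact absurd h (by simp)
    rw [hb] at h
    simp only [Bool.and_eq_true, decide_eq_true_eq] at hb
    refine grow_spec hT hL O hO hN es _ m' h fun i hi => ?_
    change Nat.testBit (m ||| 1 <<< e.1) i = true at hi
    rw [Nat.testBit_or, Bool.or_eq_true, Nat.one_shiftLeft, Nat.testBit_two_pow, decide_eq_true_eq] at hi
    rcases hi with hi | rfl
    · exact hm i hi
    obtain ⟨x, hx, hxe⟩ := hm _ hb.1.1
    refine ⟨wperm σ (gens.getD e.2.1 []) x, hO _ (hL _ ?_) x hx, ?_⟩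
    · rw [List.getD_eq_getElem gens [] hb.1.2]
      exact List.getElem_mem _
    · rw [ev_eq hT, hxe]
      exact Nat.eq_of_beq_eq_true hb.2

theorem maskCount_le {m : ℕ} {O : Set (Fin N)} (h : ∀ i, Nat.testBit m i = true → ∃ x ∈ O, (x : ℕ) = i) :
    maskCount N m ≤ O.ncard := by
  classical
  have h1 : maskCount N m = ((Finset.range N).filter fun i => Nat.testBit m i = true).card := by
    rw [maskCount, List.countP_eq_length_filter, ← List.toFinset_range,
      ← List.toFinset_card_of_nodup (List.nodup_range.filter _), List.toFinset_filter]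
  rw [h1, ← Set.ncard_coe_finset, ← Set.ncard_image_of_injective O Fin.val_injective]
  refine Set.ncard_le_ncard ?_
  intro i hi
  simp only [Finset.coe_filter, Set.mem_ofPred_eq] at hi
  obtain ⟨x, hx, rfl⟩ := h i hi.2
  exact ⟨x, hx, rfl⟩

/-- One level of a stabiliser chain: a base point, generators fixing the earlier base points, and a
growing certificate. -/
abbrev Level := ℕ × List (List ℕ) × List (ℕ × ℕ × ℕ)

/-- The orbit sizes certified by a stabiliser chain are at least the given numbers. -/
noncomputable def chainOK (T : ℕ → ℕ → ℕ) (N : ℕ) : List Level → List ℕ → List ℕ → Bool :=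
  fun ls => List.rec (fun _ ns => ns.isEmpty)
    (fun l _ ih fixed ns => decide (l.1 < N) && (l.2.1.all fun w => fixesAll T fixed w) &&
      (match grow T l.2.1 l.2.2 (Nat.shiftLeft 1 l.1), ns with
       | some m, n :: ns => decide (n ≤ maskCount N m) && ih (l.1 :: fixed) ns
       | _, _ => false)) ls

theorem chain_spec (hT : Describes T σ) (hN : ∀ i u, u < N → T i u < N) :
    ∀ (ls : List Level) (fixed ns : List ℕ) (L : Subgroup (Equiv.Perm (Fin N))),
      chainOK T N ls fixed ns = true →
      (∀ l ∈ ls, ∀ w ∈ l.2.1, fixesAll T fixed w = true → wperm σ w ∈ L) →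
      ns.prod ≤ Nat.card L
  | [], fixed, ns, L, h, _ => by
    cases ns with
    | nil => rw [List.prod_nil]; exact Nat.card_pos
    | cons n ns => simp [chainOK] at h
  | l :: ls, fixed, ns, L, h, hL => by
    change (_ && _ && _) = true at h
    simp only [Bool.and_eq_true, decide_eq_true_eq, List.all_eq_true] at h
    obtain ⟨⟨hl, hfix⟩, h⟩ := h
    rcases hg : grow T l.2.1 l.2.2 (Nat.shiftLeft 1 l.1) with _ | m
    · rw [hg] at h; exact absurd h (by simp)
    rcases ns with _ | ⟨n, ns⟩
    · rw [hg] at h; exact absurd h (by simp)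
    rw [hg] at h
    simp only [Bool.and_eq_true, decide_eq_true_eq] at h
    set x : Fin N := ⟨l.1, hl⟩
    have horb : n ≤ (orbit L x).ncard := by
      refine h.1.trans (maskCount_le (grow_spec hT (L := L) (fun w hw => hL l (List.mem_cons_self ..) w hw (hfix w hw))
        (orbit L x) (fun g hg y hy => ?_) hN _ _ _ hg fun i hi => ?_))
      · obtain ⟨t, rfl⟩ := hy
        exact ⟨⟨g, hg⟩ * t, rfl⟩
      · change Nat.testBit (1 <<< l.1) i = true at hi
        rw [Nat.one_shiftLeft, Nat.testBit_two_pow, decide_eq_true_eq] at hi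
        exact ⟨x, mem_orbit_self _, hi⟩
    have hrest : ns.prod ≤ Nat.card ↥(L ⊓ stabilizer (Equiv.Perm (Fin N)) x) := by
      refine chain_spec hT hN ls _ ns _ h.2 fun l' hl' w hw hwf => ?_
      rw [fixesAll, List.all_cons, Bool.and_eq_true] at hwf
      exact ⟨hL l' (List.mem_cons_of_mem _ hl') w hw hwf.2,
        fixesAll_spec hT (pts := [l.1]) (by simp [fixesAll, hwf.1]) x (List.mem_singleton_self _)⟩
    have hst : Nat.card ↥(L ⊓ stabilizer (Equiv.Perm (Fin N)) x) = Nat.card (stabilizer L x) :=
      Nat.card_congr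
        { toFun := fun s => ⟨⟨s.1, s.2.1⟩, s.2.2⟩
          invFun := fun s => ⟨s.1.1, s.1.2, s.2⟩
          left_inv := fun _ => rfl
          right_inv := fun _ => rfl }
    have hos : (orbit L x).ncard * Nat.card (stabilizer L x) = Nat.card L := by
      rw [← Nat.card_coe_set_eq, Nat.card_congr (orbitEquivQuotientStabilizer L x)]
      exact (Subgroup.card_eq_card_quotient_mul_card_subgroup _).symm
    rw [List.prod_cons, ← hos, ← hst]
    exact Nat.mul_le_mul horb hrest

/-- Whether a word moves a point in a cycle of exact length `p`. -/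
noncomputable def cycleLen (T : ℕ → ℕ → ℕ) (w : List ℕ) (p u : ℕ) : Bool :=
  !(Nat.beq (ev T w u) u) && Nat.beq (ev T (List.replicate p w).flatten u) u

theorem dvd_orderOf_of_cycleLen (hT : Describes T σ) {w : List ℕ} {p : ℕ} (hp : p.Prime) {u : Fin N}
    (h : cycleLen T w p u = true) : p ∣ orderOf (wperm σ w) := by
  simp only [cycleLen, Bool.and_eq_true, Bool.not_eq_true'] at h
  have h2 : wperm σ (List.replicate p w).flatten u = u :=
    Fin.ext (by rw [ev_eq hT]; exact Nat.eq_of_beq_eq_true h.2)
  rw [wperm_flatten, List.map_replicate, List.prod_replicate] at h2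
  have h1 : wperm σ w u ≠ u := fun e => by
    have := ev_eq hT w u
    rw [e] at this
    rw [← this, Nat.beq_refl] at h
    exact Bool.noConfusion h.1
  by_contra hc
  obtain ⟨m, hm⟩ := exists_pow_eq_self_of_coprime ((Nat.Prime.coprime_iff_not_dvd hp).2 hc)
  refine h1 ?_
  conv_lhs => rw [← hm]
  exact MulAction.mem_stabilizer_iff.1 (Subgroup.pow_mem (stabilizer (Equiv.Perm (Fin N)) u) h2 m)

/-- A subgroup extended by an element normalising it with square inside is still a 2-group. -/
theorem isPGroup_sup_zpowers {G : Type*} [Group G] {L : Subgroup G} {w : G} (hL : IsPGroup 2 L)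
    (hn : w ∈ Subgroup.normalizer (L : Set G)) (hw : w * w ∈ L) : IsPGroup 2 ↥(L ⊔ Subgroup.zpowers w) := by
  obtain ⟨k, hk⟩ := hL ⟨w * w, hw⟩
  have hk' : (w * w) ^ 2 ^ k = 1 := by simpa using congrArg Subtype.val hk
  have hz : IsPGroup 2 (Subgroup.zpowers w) := by
    intro ⟨x, hx⟩
    obtain ⟨i, rfl⟩ := Subgroup.mem_zpowers_iff.1 hx
    refine ⟨k + 1, Subtype.ext ?_⟩
    simp only [SubmonoidClass.mk_pow, OneMemClass.coe_one]
    rw [← zpow_natCast, ← zpow_mul, mul_comm, zpow_mul, zpow_natCast, pow_succ', pow_mul, sq, hk', one_zpow]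
  exact hL.to_sup_of_normal_left' hz (Subgroup.zpowers_le.2 hn)

end CfsgLib.RankThreeRecog
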