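import Cfsg.Agent.Lib.RankThreeRecog.Graph

/-!
Two rank three actions with matching suborbit actions have isomorphic orbital graphs.
-/

set_option autoImplicit false
set_option linter.style.haveILetI false

namespace CfsgLib.RankThreeRecog

open MulAction
open scoped Classical

universe u v u' v'

variable {S : Type u} [Group S] {V : Type v} [MulAction S V] {a₀ b₀ c₀ : V}
variable {G : Type u'} [Group G] {W : Type v'} [MulAction G W] {a b c : W} {n k l : ℕ}

/-- Uniqueness of the invariant subsets which can occur as neighbourhoods. -/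
structure Forced (S : Type u) [Group S] {V : Type v} [MulAction S V] (a₀ b₀ c₀ : V) (k l : ℕ) : Prop where
  nearNear : ∀ A A' : Set V, (∀ B ∈ [A, A'], B ⊆ orbit (stabilizer S a₀) b₀ ∧ b₀ ∉ B ∧
      (∀ s : S, s • a₀ = a₀ → s • b₀ = b₀ → ∀ y ∈ B, s • y ∈ B) ∧ B.ncard + 1 < k ∧
      l ∣ k * (k - 1 - B.ncard)) → A = A'
  farNear : ∀ A A' : Set V, (∀ B ∈ [A, A'], B ⊆ orbit (stabilizer S a₀) b₀ ∧
      (∀ s : S, s • a₀ = a₀ → s • c₀ = c₀ → ∀ y ∈ B, s • y ∈ B)) → A.ncard = A'.ncard → A = A'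
  farFar : ∀ A A' : Set V, (∀ B ∈ [A, A'], B ⊆ orbit (stabilizer S a₀) c₀ ∧ c₀ ∉ B ∧
      (∀ s : S, s • a₀ = a₀ → s • c₀ = c₀ → ∀ y ∈ B, s • y ∈ B)) → A.ncard = A'.ncard → A = A'

variable (φ : stabilizer S a₀ ≃* stabilizer G a)

/-- A bijection intertwining the two point stabilisers. -/
theorem exists_map (hS : Sub S a₀ b₀ c₀ n k l) (hG : Sub G a b c n k l)
    (hb : ∀ s : stabilizer S a₀, φ s • b = b ↔ s • b₀ = b₀)
    (hc : ∀ s : stabilizer S a₀, φ s • c = c ↔ s • c₀ = c₀) :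
    ∃ ψ : V ≃ W, ψ a₀ = a ∧ ψ b₀ = b ∧ ψ c₀ = c ∧ ∀ (s : stabilizer S a₀) (x : V), ψ (s • x) = φ s • ψ x := by
  haveI := hS.finV
  haveI := hG.finV
  let f : V → W := fun x =>
    if h : ∃ s : stabilizer S a₀, s • b₀ = x then φ h.choose • b
    else if h' : ∃ s : stabilizer S a₀, s • c₀ = x then φ h'.choose • c else a
  have fb : ∀ s : stabilizer S a₀, f (s • b₀) = φ s • b := by
    intro s
    have h : ∃ t : stabilizer S a₀, t • b₀ = s • b₀ := ⟨s, rfl⟩
    simp only [f, dif_pos h]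
    rw [← inv_smul_eq_iff, smul_smul, ← map_inv, ← map_mul, hb, mul_smul, h.choose_spec, inv_smul_smul]
  have hncb : ∀ x, x ∈ orbit (stabilizer S a₀) c₀ → ¬ ∃ t : stabilizer S a₀, t • b₀ = x :=
    fun x hx h => disjoint_orbits hS h hx
  have fc : ∀ s : stabilizer S a₀, f (s • c₀) = φ s • c := by
    intro s
    have h : ∃ t : stabilizer S a₀, t • c₀ = s • c₀ := ⟨s, rfl⟩
    simp only [f, dif_neg (hncb _ ⟨s, rfl⟩), dif_pos h]
    rw [← inv_smul_eq_iff, smul_smul, ← map_inv, ← map_mul, hc, mul_smul, h.choose_spec, inv_smul_smul]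
  have fa : f a₀ = a := by
    have h1 : ¬ ∃ t : stabilizer S a₀, t • b₀ = a₀ := not_mem_near hS
    have h2 : ¬ ∃ t : stabilizer S a₀, t • c₀ = a₀ := not_mem_far hS
    simp only [f, dif_neg h1, dif_neg h2]
  have hsurj : Function.Surjective f := by
    intro y
    rcases cover hG y with rfl | ⟨g, rfl⟩ | ⟨g, rfl⟩
    · exact ⟨a₀, fa⟩
    · exact ⟨φ.symm g • b₀, by rw [fb, MulEquiv.apply_symm_apply]⟩
    · exact ⟨φ.symm g • c₀, by rw [fc, MulEquiv.apply_symm_apply]⟩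
  have hbij : Function.Bijective f :=
    (Nat.bijective_iff_surjective_and_card f).2 ⟨hsurj, by rw [hS.card, hG.card]⟩
  refine ⟨Equiv.ofBijective f hbij, fa, ?_, ?_, ?_⟩
  · simpa using fb 1
  · simpa using fc 1
  intro s x
  change f (s • x) = φ s • f x
  rcases cover hS x with e | ⟨t, rfl⟩ | ⟨t, rfl⟩
  · rw [e, show s • a₀ = a₀ from s.2, fa, show φ s • a = a from (φ s).2]
  · rw [smul_smul, fb, fb, map_mul, mul_smul]
  · rw [smul_smul, fc, fc, map_mul, mul_smul]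

/-- The preimage of the neighbours of `c` in the first suborbit is invariant and of the same size. -/
theorem farNear_pre (hS : Sub S a₀ b₀ c₀ n k l) (hG : Sub G a b c n k l)
    (ψ : V ≃ W) (hb : ψ b₀ = b) (hc : ψ c₀ = c)
    (hψ : ∀ (s : stabilizer S a₀) (x : V), ψ (s • x) = φ s • ψ x)
    (hA1 : ψ ⁻¹' nearNear G a b = nearNear S a₀ b₀) :
    ψ ⁻¹' farNear G a b c ⊆ orbit (stabilizer S a₀) b₀ ∧
      (∀ s : S, s • a₀ = a₀ → s • c₀ = c₀ → ∀ y ∈ ψ ⁻¹' farNear G a b c, s • y ∈ ψ ⁻¹' farNear G a b c) ∧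
      (ψ ⁻¹' farNear G a b c).ncard = (farNear S a₀ b₀ c₀).ncard := by
  haveI := hS.finV
  haveI := hG.finV
  have horb : ∀ {z : V} {z' : W}, ψ z = z' → ∀ x, ψ x ∈ orbit (stabilizer G a) z' ↔
      x ∈ orbit (stabilizer S a₀) z := by
    intro z z' hz x
    constructor
    · rintro ⟨g, hg⟩
      refine ⟨φ.symm g, ψ.injective ?_⟩
      rw [hψ, MulEquiv.apply_symm_apply, hz]
      exact hg
    · rintro ⟨s, rfl⟩
      exact ⟨φ s, by rw [hψ, hz]⟩
  -- the invariance of pulled back sets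
  have hinv : ∀ (T : Set W) (z : V) (z' : W), ψ z = z' →
      (∀ g : G, g • a = a → g • z' = z' → ∀ w ∈ T, g • w ∈ T) →
      ∀ s : S, s • a₀ = a₀ → s • z = z → ∀ w ∈ ψ ⁻¹' T, s • w ∈ ψ ⁻¹' T := by
    intro T z z' hz hT s hs hsz w hw
    have h1 := hψ ⟨s, hs⟩ w
    have h2 : φ ⟨s, hs⟩ • z' = z' := by
      rw [← hz, ← hψ]
      exact congrArg ψ hsz
    rw [Set.mem_preimage, show s • w = (⟨s, hs⟩ : stabilizer S a₀) • w from rfl, h1]
    exact hT _ (φ ⟨s, hs⟩).2 h2 _ hw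
  have hpre : ∀ T : Set W, (ψ ⁻¹' T).ncard = T.ncard := fun T => by
    rw [← Equiv.image_symm_eq_preimage, Set.ncard_image_of_injective _ ψ.symm.injective]
  refine ⟨fun w hw => (horb hb w).1 hw.1, hinv _ _ _ hc fun g => farNear_invariant, ?_⟩
  rw [hpre]
  refine Nat.eq_of_mul_eq_mul_left (show 0 < l from hS.lpos.trans' Nat.one_pos) ?_
  rw [← double_count hS, ← double_count hG]
  have h1 := ncard_nearNear_add hS
  have h2 := ncard_nearNear_add hG
  rw [← hA1, hpre] at h1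
  congr 1
  omega

/-- The bijection preserves edges, given the image of the neighbours of `c` in the first suborbit. -/
theorem edge_iff' (hNN : ∀ A A' : Set V, (∀ B ∈ [A, A'], B ⊆ orbit (stabilizer S a₀) b₀ ∧ b₀ ∉ B ∧
      (∀ s : S, s • a₀ = a₀ → s • b₀ = b₀ → ∀ y ∈ B, s • y ∈ B) ∧ B.ncard + 1 < k ∧
      l ∣ k * (k - 1 - B.ncard)) → A = A')
    (hFF : ∀ A A' : Set V, (∀ B ∈ [A, A'], B ⊆ orbit (stabilizer S a₀) c₀ ∧ c₀ ∉ B ∧
      (∀ s : S, s • a₀ = a₀ → s • c₀ = c₀ → ∀ y ∈ B, s • y ∈ B)) → A.ncard = A'.ncard → A = A')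
    (hS : Sub S a₀ b₀ c₀ n k l) (hG : Sub G a b c n k l)
    (ψ : V ≃ W) (ha : ψ a₀ = a) (hb : ψ b₀ = b) (hc : ψ c₀ = c)
    (hψ : ∀ (s : stabilizer S a₀) (x : V), ψ (s • x) = φ s • ψ x)
    (h2 : ψ ⁻¹' nearNear G a b = nearNear S a₀ b₀ → ψ ⁻¹' farNear G a b c = farNear S a₀ b₀ c₀) (x y : V) :
    Edge G a b (ψ x) (ψ y) ↔ Edge S a₀ b₀ x y := by
  haveI := hS.finV
  haveI := hG.finV
  have horb : ∀ {z : V} {z' : W}, ψ z = z' → ∀ x, ψ x ∈ orbit (stabilizer G a) z' ↔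
      x ∈ orbit (stabilizer S a₀) z := by
    intro z z' hz x
    constructor
    · rintro ⟨g, hg⟩
      refine ⟨φ.symm g, ψ.injective ?_⟩
      rw [hψ, MulEquiv.apply_symm_apply, hz]
      exact hg
    · rintro ⟨s, rfl⟩
      exact ⟨φ s, by rw [hψ, hz]⟩
  -- the invariance of pulled back sets
  have hinv : ∀ (T : Set W) (z : V) (z' : W), ψ z = z' →
      (∀ g : G, g • a = a → g • z' = z' → ∀ w ∈ T, g • w ∈ T) →
      ∀ s : S, s • a₀ = a₀ → s • z = z → ∀ w ∈ ψ ⁻¹' T, s • w ∈ ψ ⁻¹' T := by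
    intro T z z' hz hT s hs hsz w hw
    have h1 := hψ ⟨s, hs⟩ w
    have h2 : φ ⟨s, hs⟩ • z' = z' := by
      rw [← hz, ← hψ]
      exact congrArg ψ hsz
    rw [Set.mem_preimage, show s • w = (⟨s, hs⟩ : stabilizer S a₀) • w from rfl, h1]
    exact hT _ (φ ⟨s, hs⟩).2 h2 _ hw
  have hpre : ∀ T : Set W, (ψ ⁻¹' T).ncard = T.ncard := fun T => by
    rw [← Equiv.image_symm_eq_preimage, Set.ncard_image_of_injective _ ψ.symm.injective]
  have hA1 : ψ ⁻¹' nearNear G a b = nearNear S a₀ b₀ := by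
    refine hNN _ _ ?_
    intro B hB
    rcases List.mem_cons.1 hB with rfl | hB
    · refine ⟨fun w hw => (horb hb w).1 hw.1, fun hw => edge_irrefl hG b ?_, hinv _ _ _ hb fun g => nearNear_invariant, ?_⟩
      · rw [Set.mem_preimage, hb] at hw
        exact hw.2
      rw [hpre]
      refine ⟨nearNear_lt hG, ⟨(farNear G a b c).ncard, ?_⟩⟩
      rw [← double_count hG]
      have := ncard_nearNear_add hG
      congr 1
      omega
    · rw [List.mem_singleton] at hB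
      subst hB
      refine ⟨fun w hw => hw.1, fun hw => edge_irrefl hS b₀ hw.2, fun s => nearNear_invariant, nearNear_lt hS,
        ⟨(farNear S a₀ b₀ c₀).ncard, ?_⟩⟩
      rw [← double_count hS]
      have := ncard_nearNear_add hS
      congr 1
      omega
  have hA2 : ψ ⁻¹' farNear G a b c = farNear S a₀ b₀ c₀ := h2 hA1
  have hA3 : ψ ⁻¹' farFar G a b c = farFar S a₀ b₀ c₀ := by
    refine hFF _ _ ?_ ?_
    · intro B hB
      rcases List.mem_cons.1 hB with rfl | hB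
      · refine ⟨fun w hw => (horb hc w).1 hw.1, fun hw => edge_irrefl hG c ?_, hinv _ _ _ hc fun g => farFar_invariant⟩
        rw [Set.mem_preimage, hc] at hw
        exact hw.2
      · rw [List.mem_singleton] at hB
        subst hB
        exact ⟨fun w hw => hw.1, fun hw => edge_irrefl hS c₀ hw.2, fun s => farFar_invariant⟩
    · rw [hpre]
      have h1 := ncard_farNear_add hS
      have h2 := ncard_farNear_add hG
      rw [← hA2, hpre] at h1
      omega
  -- move the first point to a representative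
  have hmove : ∀ (s : stabilizer S a₀) (z w : V),
      (Edge G a b (ψ (s • z)) (ψ w) ↔ Edge G a b (ψ z) (ψ (s⁻¹ • w))) ∧
      (Edge S a₀ b₀ (s • z) w ↔ Edge S a₀ b₀ z (s⁻¹ • w)) := by
    intro s z w
    refine ⟨?_, ?_⟩
    · rw [hψ, hψ, map_inv, ← edge_smul ((φ s : G)) (x := ψ z)]
      change Edge G a b ((φ s : G) • ψ z) (ψ w) ↔
        Edge G a b ((φ s : G) • ψ z) ((φ s : G) • ((φ s : G)⁻¹ • ψ w))
      rw [smul_inv_smul]
    · rw [← edge_smul (s : S) (x := z)]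
      change Edge S a₀ b₀ ((s : S) • z) w ↔ Edge S a₀ b₀ ((s : S) • z) ((s : S) • ((s : S)⁻¹ • w))
      rw [smul_inv_smul]
  have base : ∀ w, Edge G a b (ψ a₀) (ψ w) ↔ Edge S a₀ b₀ a₀ w := fun w => by
    rw [ha, edge_base, edge_base, horb hb]
  have atC : ∀ w, w ≠ a₀ → (Edge G a b (ψ c₀) (ψ w) ↔ Edge S a₀ b₀ c₀ w) := by
    intro w hwa
    rw [hc]
    rcases cover hS w with e | e | e
    · exact absurd e hwa
    · constructor
      · intro he
        exact (hA2.subset (show w ∈ ψ ⁻¹' farNear G a b c from ⟨(horb hb w).2 e, he⟩)).2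
      · intro he
        exact (hA2.superset (show w ∈ farNear S a₀ b₀ c₀ from ⟨e, he⟩)).2
    · constructor
      · intro he
        exact (hA3.subset (show w ∈ ψ ⁻¹' farFar G a b c from ⟨(horb hc w).2 e, he⟩)).2
      · intro he
        exact (hA3.superset (show w ∈ farFar S a₀ b₀ c₀ from ⟨e, he⟩)).2
  have symmG : ∀ {p q : W}, Edge G a b p q ↔ Edge G a b q p := ⟨edge_symm hG, edge_symm hG⟩
  have symmS : ∀ {p q : V}, Edge S a₀ b₀ p q ↔ Edge S a₀ b₀ q p := ⟨edge_symm hS, edge_symm hS⟩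
  by_cases hx : x = a₀
  · rw [hx]; exact base y
  by_cases hy : y = a₀
  · rw [hy, symmG, symmS]; exact base x
  rcases cover hS x with e | ⟨s, rfl⟩ | ⟨s, rfl⟩
  · exact absurd e hx
  · rcases cover hS y with e | e | ⟨t, rfl⟩
    · exact absurd e hy
    · rw [(hmove s b₀ y).1, (hmove s b₀ y).2, hb]
      have e' : s⁻¹ • y ∈ orbit (stabilizer S a₀) b₀ := by
        obtain ⟨t, rfl⟩ := e
        exact ⟨s⁻¹ * t, mul_smul _ _ _⟩
      constructor
      · intro he
        exact (hA1.subset (show s⁻¹ • y ∈ ψ ⁻¹' nearNear G a b from ⟨(horb hb _).2 e', he⟩)).2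
      · intro he
        exact (hA1.superset (show s⁻¹ • y ∈ nearNear S a₀ b₀ from ⟨e', he⟩)).2
    · rw [symmG, symmS, (hmove t c₀ _).1, (hmove t c₀ _).2]
      refine atC _ fun e => hx ?_
      rw [inv_smul_eq_iff] at e
      exact e.trans t.2
  · rw [(hmove s c₀ y).1, (hmove s c₀ y).2]
    refine atC _ fun e => hy ?_
    rw [inv_smul_eq_iff] at e
    exact e.trans s.2

/-- The bijection preserves edges. -/
theorem edge_iff (hF : Forced S a₀ b₀ c₀ k l) (hS : Sub S a₀ b₀ c₀ n k l) (hG : Sub G a b c n k l)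
    (ψ : V ≃ W) (ha : ψ a₀ = a) (hb : ψ b₀ = b) (hc : ψ c₀ = c)
    (hψ : ∀ (s : stabilizer S a₀) (x : V), ψ (s • x) = φ s • ψ x) (x y : V) :
    Edge G a b (ψ x) (ψ y) ↔ Edge S a₀ b₀ x y := by
  refine edge_iff' φ hF.nearNear hF.farFar hS hG ψ ha hb hc hψ (fun hA1 => ?_) x y
  obtain ⟨p1, p2, p3⟩ := farNear_pre φ hS hG ψ hb hc hψ hA1
  refine hF.farNear _ _ ?_ p3
  intro B hB
  rcases List.mem_cons.1 hB with rfl | hB
  · exact ⟨p1, p2⟩
  · rw [List.mem_singleton] at hB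
    subst hB
    exact ⟨fun w hw => hw.1, fun s => farNear_invariant⟩

end CfsgLib.RankThreeRecog
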