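import Mathlib.GroupTheory.GroupAction.Quotient
import Mathlib.Data.Set.Card
import Mathlib.Combinatorics.Enumerative.DoubleCounting
import Mathlib.GroupTheory.Index
import Mathlib.GroupTheory.Coset.Card
import Mathlib.Tactic.Linarith

/-!
Rank three actions whose two suborbits have different sizes: the orbital graph is determined by the
suborbit actions when invariant subsets of the relevant sizes are unique.
-/

set_option autoImplicit false
set_option linter.unusedVariables false
set_option linter.style.haveILetI false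
set_option linter.unusedTactic false

namespace CfsgLib.RankThreeRecog

open MulAction
open scoped Classical

universe u v u' v'

section One

variable {G : Type u} [Group G] {V : Type v} [MulAction G V] {a b c : V} {n k l : ℕ}

/-- A base point with two suborbit representatives. -/
structure Sub (G : Type u) [Group G] {V : Type v} [MulAction G V] (a b c : V) (n k l : ℕ) : Prop where
  finG : Finite G
  finV : Finite V
  pre : IsPretransitive G V
  card : Nat.card V = n
  near : (orbit (stabilizer G a) b).ncard = k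
  far : (orbit (stabilizer G a) c).ncard = l
  ne : k ≠ l
  sum : 1 + k + l = n
  kpos : 1 < k
  lpos : 1 < l
  noBlock : ¬ (k + 1) ∣ n

/-- The suborbit relation. -/
def Edge (G : Type u) [Group G] {V : Type v} [MulAction G V] (a b : V) (x y : V) : Prop :=
  ∃ g : G, g • a = x ∧ g • b = y

theorem edge_smul (g : G) {x y : V} : Edge G a b (g • x) (g • y) ↔ Edge G a b x y := by
  constructor
  · rintro ⟨h, h1, h2⟩
    exact ⟨g⁻¹ * h, by rw [mul_smul, h1, inv_smul_smul], by rw [mul_smul, h2, inv_smul_smul]⟩
  · rintro ⟨h, h1, h2⟩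
    exact ⟨g * h, by rw [mul_smul, h1], by rw [mul_smul, h2]⟩

theorem edge_base {y : V} : Edge G a b a y ↔ y ∈ orbit (stabilizer G a) b := by
  constructor
  · rintro ⟨g, hg, rfl⟩
    exact ⟨⟨g, hg⟩, rfl⟩
  · rintro ⟨g, rfl⟩
    exact ⟨g, g.2, rfl⟩

theorem orbit_ne (h : Sub G a b c n k l) {x : V} (hx : 1 < (orbit (stabilizer G a) x).ncard) :
    a ∉ orbit (stabilizer G a) x := by
  intro ha
  have h1 : orbit (stabilizer G a) x ⊆ {a} := by
    rw [← orbit_eq_iff.2 ha]
    rintro _ ⟨g, rfl⟩
    exact g.2
  have := Set.ncard_le_ncard h1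
  rw [Set.ncard_singleton] at this
  omega

theorem not_mem_near (h : Sub G a b c n k l) : a ∉ orbit (stabilizer G a) b :=
  orbit_ne h (by rw [h.near]; exact h.kpos)

theorem not_mem_far (h : Sub G a b c n k l) : a ∉ orbit (stabilizer G a) c :=
  orbit_ne h (by rw [h.far]; exact h.lpos)

theorem disjoint_orbits (h : Sub G a b c n k l) {x : V} (h1 : x ∈ orbit (stabilizer G a) b) :
    x ∉ orbit (stabilizer G a) c := fun h2 => by
  have := h.near
  rw [← orbit_eq_iff.2 h1, orbit_eq_iff.2 h2, h.far] at this
  exact h.ne this.symm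

theorem cover (h : Sub G a b c n k l) (x : V) :
    x = a ∨ x ∈ orbit (stabilizer G a) b ∨ x ∈ orbit (stabilizer G a) c := by
  haveI := h.finV
  have hu : insert a (orbit (stabilizer G a) b ∪ orbit (stabilizer G a) c) = (Set.univ : Set V) := by
    rw [Set.eq_univ_iff_ncard, h.card, Set.ncard_insert_of_notMem
        (fun hm => hm.elim (not_mem_near h) (not_mem_far h)),
      Set.ncard_union_eq (Set.disjoint_left.2 fun _ hx => disjoint_orbits h hx), h.near, h.far]
    have := h.sum
    omega
  have hm := Set.eq_univ_iff_forall.1 hu x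
  simpa using hm

theorem edge_irrefl (h : Sub G a b c n k l) (x : V) : ¬ Edge G a b x x := by
  rintro ⟨g, h1, h2⟩
  have : a = b := smul_left_cancel g (h1.trans h2.symm)
  refine not_mem_near h ?_
  rw [this]
  exact mem_orbit_self b

theorem ncard_orbit_mul_stab (H : Subgroup G) [Finite H] (x : V) :
    (orbit H x).ncard * Nat.card (stabilizer H x) = Nat.card H := by
  rw [← Nat.card_coe_set_eq, Nat.card_congr (orbitEquivQuotientStabilizer H x)]
  exact (Subgroup.card_eq_card_quotient_mul_card_subgroup _).symm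

theorem card_group (h : Sub G a b c n k l) : n * Nat.card (stabilizer G a) = Nat.card G := by
  haveI := h.finG
  haveI := h.pre
  rw [← h.card, ← index_stabilizer_of_transitive G a, mul_comm, Subgroup.card_mul_index]

theorem edge_symm (h : Sub G a b c n k l) {x y : V} (hxy : Edge G a b x y) : Edge G a b y x := by
  haveI := h.finG
  haveI := h.finV
  haveI := h.pre
  suffices hba : Edge G a b b a by
    obtain ⟨g, rfl, rfl⟩ := hxy
    exact (edge_smul g).2 hba
  obtain ⟨g, hg⟩ := exists_smul_eq G a b
  rcases cover h (g⁻¹ • a) with e | e | e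
  · exfalso
    have : g • a = a := by rw [inv_smul_eq_iff] at e; exact e.symm
    refine not_mem_near h ?_
    rw [this.symm.trans hg]
    exact mem_orbit_self b
  · obtain ⟨⟨s, hs⟩, hsb⟩ := e
    refine ⟨g * s, ?_, ?_⟩
    · rw [mul_smul, show s • a = a from hs, hg]
    · rw [mul_smul]
      change g • (s • b) = a
      rw [show s • b = g⁻¹ • a from hsb, smul_inv_smul]
  · exfalso
    -- the pair stabilisers of `(a, b)` and `(a, g⁻¹ a)` are conjugate
    have hpair : ∀ x : V, Nat.card (stabilizer (stabilizer G a) x) =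
        Nat.card {s : G // s • a = a ∧ s • x = x} := fun x =>
      Nat.card_congr
        { toFun := fun s => ⟨s.1.1, s.1.2, s.2⟩
          invFun := fun s => ⟨⟨s.1, s.2.1⟩, s.2.2⟩
          left_inv := fun _ => rfl
          right_inv := fun _ => rfl }
    have he : Nat.card {s : G // s • a = a ∧ s • b = b} =
        Nat.card {s : G // s • a = a ∧ s • (g⁻¹ • a) = g⁻¹ • a} := by
      refine Nat.card_congr ((MulAut.conj g⁻¹).toEquiv.subtypeEquiv fun s => ?_)
      simp only [MulEquiv.toEquiv_eq_coe, MulEquiv.coe_toEquiv, MulAut.conj_apply, inv_inv, mul_smul,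
        smul_inv_smul, hg, inv_smul_eq_iff]
      exact and_comm
    have hk := ncard_orbit_mul_stab (stabilizer G a) b
    have hl := ncard_orbit_mul_stab (stabilizer G a) (g⁻¹ • a)
    rw [h.near, hpair, he] at hk
    rw [orbit_eq_iff.2 e, h.far, hpair] at hl
    have hpos : 0 < Nat.card {s : G // s • a = a ∧ s • (g⁻¹ • a) = g⁻¹ • a} :=
      haveI : Nonempty {s : G // s • a = a ∧ s • (g⁻¹ • a) = g⁻¹ • a} := ⟨⟨1, one_smul .., one_smul ..⟩⟩
      Nat.card_pos
    exact h.ne (Nat.eq_of_mul_eq_mul_right hpos (hk.trans hl.symm))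

/-- The neighbours of `b` inside the first suborbit. -/
def nearNear (G : Type u) [Group G] {V : Type v} [MulAction G V] (a b : V) : Set V :=
  {y | y ∈ orbit (stabilizer G a) b ∧ Edge G a b b y}

/-- The neighbours of `c` inside the first suborbit. -/
def farNear (G : Type u) [Group G] {V : Type v} [MulAction G V] (a b c : V) : Set V :=
  {y | y ∈ orbit (stabilizer G a) b ∧ Edge G a b c y}

/-- The neighbours of `c` inside the second suborbit. -/
def farFar (G : Type u) [Group G] {V : Type v} [MulAction G V] (a b c : V) : Set V :=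
  {y | y ∈ orbit (stabilizer G a) c ∧ Edge G a b c y}

theorem ncard_nbr (h : Sub G a b c n k l) (x : V) : {y | Edge G a b x y}.ncard = k := by
  haveI := h.pre
  obtain ⟨g, rfl⟩ := exists_smul_eq G a x
  have : {y | Edge G a b (g • a) y} = (g • ·) '' orbit (stabilizer G a) b := by
    ext y
    rw [Set.mem_ofPred_eq, Set.mem_image]
    constructor
    · intro hy
      exact ⟨g⁻¹ • y, edge_base.1 ((edge_smul g).1 (by rwa [smul_inv_smul])), smul_inv_smul g y⟩
    · rintro ⟨z, hz, rfl⟩
      exact (edge_smul g).2 (edge_base.2 hz)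
  rw [this, Set.ncard_image_of_injective _ (MulAction.injective g), h.near]

theorem ncard_farNear_add (h : Sub G a b c n k l) :
    (farNear G a b c).ncard + (farFar G a b c).ncard = k := by
  haveI := h.finV
  rw [← ncard_nbr h c, ← Set.ncard_union_eq
    (Set.disjoint_left.2 fun y hy hy' => disjoint_orbits h hy.1 hy'.1)]
  congr 1
  ext y
  constructor
  · rintro (⟨-, hy⟩ | ⟨-, hy⟩) <;> exact hy
  · intro hy
    rcases cover h y with rfl | e | e
    · exact absurd (edge_base.1 (edge_symm h hy)) fun e => disjoint_orbits h e (mem_orbit_self c)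
    · exact Or.inl ⟨e, hy⟩
    · exact Or.inr ⟨e, hy⟩

theorem ncard_nearNear_add (h : Sub G a b c n k l) :
    1 + (nearNear G a b).ncard + {y | y ∈ orbit (stabilizer G a) c ∧ Edge G a b b y}.ncard = k := by
  haveI := h.finV
  have hd : a ∉ nearNear G a b := fun e => not_mem_near h e.1
  rw [← ncard_nbr h b, add_comm 1, ← Set.ncard_insert_of_notMem hd, ← Set.ncard_union_eq]
  · congr 1
    ext y
    constructor
    · rintro ((rfl | ⟨-, hy⟩) | ⟨-, hy⟩)
      · exact edge_symm h (edge_base.2 (mem_orbit_self b))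
      · exact hy
      · exact hy
    · intro hy
      rcases cover h y with rfl | e | e
      · exact Or.inl (Or.inl rfl)
      · exact Or.inl (Or.inr ⟨e, hy⟩)
      · exact Or.inr ⟨e, hy⟩
  · refine Set.disjoint_left.2 fun y hy hy' => ?_
    rcases hy with rfl | hy
    · exact not_mem_far h hy'.1
    · exact disjoint_orbits h hy.1 hy'.1

theorem double_count (h : Sub G a b c n k l) :
    k * {y | y ∈ orbit (stabilizer G a) c ∧ Edge G a b b y}.ncard = l * (farNear G a b c).ncard := by
  haveI := h.finV
  letI := Fintype.ofFinite V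
  have key := Finset.sum_card_bipartiteAbove_eq_sum_card_bipartiteBelow
    (s := (orbit (stabilizer G a) b).toFinset) (t := (orbit (stabilizer G a) c).toFinset)
    (r := Edge G a b)
  rw [Finset.sum_const_nat (m := {y | y ∈ orbit (stabilizer G a) c ∧ Edge G a b b y}.ncard) ?_,
    Finset.sum_const_nat (m := (farNear G a b c).ncard) ?_, ← Set.ncard_eq_toFinset_card',
    ← Set.ncard_eq_toFinset_card', h.near, h.far] at key
  · exact key
  · intro y hy
    obtain ⟨⟨g, hg⟩, rfl⟩ := Set.mem_toFinset.1 hy
    rw [show (farNear G a b c).ncard = ((g • ·) '' farNear G a b c).ncard from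
      (Set.ncard_image_of_injective _ (MulAction.injective g)).symm, ← Set.ncard_coe_finset]
    congr 1
    ext x
    simp only [Finset.coe_bipartiteBelow, Set.mem_toFinset, Set.mem_ofPred_eq, Set.mem_image]
    constructor
    · rintro ⟨hx, e⟩
      refine ⟨g⁻¹ • x, ⟨?_, ?_⟩, smul_inv_smul g x⟩
      · obtain ⟨s, rfl⟩ := hx
        exact ⟨(⟨g, hg⟩ : stabilizer G a)⁻¹ * s, mul_smul _ _ _⟩
      · exact edge_symm h ((edge_smul g).1 (by rw [smul_inv_smul]; exact e))
    · rintro ⟨z, ⟨hz, e⟩, rfl⟩
      refine ⟨?_, edge_symm h ((edge_smul g).2 e)⟩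
      obtain ⟨s, rfl⟩ := hz
      exact ⟨(⟨g, hg⟩ : stabilizer G a) * s, mul_smul _ _ _⟩
  · intro x hx
    obtain ⟨⟨g, hg⟩, rfl⟩ := Set.mem_toFinset.1 hx
    rw [show {y | y ∈ orbit (stabilizer G a) c ∧ Edge G a b b y}.ncard =
      ((g • ·) '' {y | y ∈ orbit (stabilizer G a) c ∧ Edge G a b b y}).ncard from
      (Set.ncard_image_of_injective _ (MulAction.injective g)).symm, ← Set.ncard_coe_finset]
    congr 1
    ext y
    simp only [Finset.coe_bipartiteAbove, Set.mem_toFinset, Set.mem_ofPred_eq, Set.mem_image]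
    constructor
    · rintro ⟨hy, e⟩
      refine ⟨g⁻¹ • y, ⟨?_, (edge_smul g).1 (by rw [smul_inv_smul]; exact e)⟩, smul_inv_smul g y⟩
      obtain ⟨s, rfl⟩ := hy
      exact ⟨(⟨g, hg⟩ : stabilizer G a)⁻¹ * s, mul_smul _ _ _⟩
    · rintro ⟨z, ⟨hz, e⟩, rfl⟩
      refine ⟨?_, (edge_smul g).2 e⟩
      obtain ⟨s, rfl⟩ := hz
      exact ⟨(⟨g, hg⟩ : stabilizer G a) * s, mul_smul _ _ _⟩

/-- The graph is connected: not all further neighbours of `b` lie in the first suborbit. -/
theorem nearNear_lt (h : Sub G a b c n k l) : (nearNear G a b).ncard + 1 < k := by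
  haveI := h.finG
  haveI := h.finV
  haveI := h.pre
  by_contra hc
  have h0 : {y | y ∈ orbit (stabilizer G a) c ∧ Edge G a b b y} = ∅ := by
    rw [← Set.ncard_eq_zero]
    have := ncard_nearNear_add h
    omega
  -- then `{a} ∪ O₁` is a block
  set C : Set V := insert a (orbit (stabilizer G a) b) with hC
  have hCc : C.ncard = k + 1 := by rw [hC, Set.ncard_insert_of_notMem (not_mem_near h), h.near]
  have hclosed : ∀ x ∈ C, ∀ y, Edge G a b x y → y ∈ C := by
    rintro x (rfl | ⟨⟨g, hg⟩, rfl⟩) y hy
    · exact Or.inr (edge_base.1 hy)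
    · have hy' : Edge G a b b (g⁻¹ • y) := (edge_smul g).1 (by rw [smul_inv_smul]; exact hy)
      rcases cover h (g⁻¹ • y) with e | e | e
      · left
        rw [inv_smul_eq_iff] at e
        exact e.trans hg
      · right
        obtain ⟨s, hs⟩ := e
        refine ⟨(⟨g, hg⟩ : stabilizer G a) * s, ?_⟩
        change ((⟨g, hg⟩ : stabilizer G a) * s) • b = y
        rw [mul_smul, show s • b = g⁻¹ • y from hs]
        exact smul_inv_smul g y
      · exact absurd (show g⁻¹ • y ∈ {y | y ∈ orbit (stabilizer G a) c ∧ Edge G a b b y} from ⟨e, hy'⟩)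
          (by rw [h0]; exact id)
  have himg : ∀ g : G, g • a ∈ C → (g • ·) '' C = C := by
    intro g hg
    refine Set.eq_of_subset_of_ncard_le ?_ (le_of_eq (Set.ncard_image_of_injective _
      (MulAction.injective g)).symm)
    rintro _ ⟨x, (rfl | hx), rfl⟩
    · exact hg
    · exact hclosed _ hg _ ((edge_smul g).2 (edge_base.2 hx))
  let M : Subgroup G :=
    { carrier := {g | (g • ·) '' C = C}
      one_mem' := by simp
      mul_mem' := fun {g g'} hg hg' => by
        simp only [Set.mem_ofPred_eq] at hg hg' ⊢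
        conv_rhs => rw [← hg, ← hg']
        rw [Set.image_image]
        simp [mul_smul]
      inv_mem' := fun {g} hg => by
        simp only [Set.mem_ofPred_eq] at hg ⊢
        conv_lhs => rw [← hg]
        rw [Set.image_image]
        simp }
  have horb : orbit M a = C := by
    apply subset_antisymm
    · rintro _ ⟨g, rfl⟩
      exact g.2.subset ⟨a, Set.mem_insert a _, rfl⟩
    · intro x hx
      obtain ⟨g, rfl⟩ := exists_smul_eq G a x
      exact ⟨⟨g, himg g hx⟩, rfl⟩
  have hst : Nat.card (stabilizer M a) = Nat.card (stabilizer G a) :=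
    Nat.card_congr
      { toFun := fun s => ⟨s.1.1, s.2⟩
        invFun := fun s => ⟨⟨s.1, himg s.1 (by rw [show s.1 • a = a from s.2]; exact Set.mem_insert a _)⟩, s.2⟩
        left_inv := fun _ => rfl
        right_inv := fun _ => rfl }
  have hM := ncard_orbit_mul_stab M a
  rw [horb, hCc, hst] at hM
  have hdvd := Subgroup.card_subgroup_dvd_card M
  rw [← hM, ← card_group h] at hdvd
  exact h.noBlock (Nat.dvd_of_mul_dvd_mul_right Nat.card_pos hdvd)

theorem nearNear_invariant {s : G} (ha : s • a = a) (hb : s • b = b) {y : V}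
    (hy : y ∈ nearNear G a b) : s • y ∈ nearNear G a b := by
  refine ⟨?_, ?_⟩
  · obtain ⟨t, rfl⟩ := hy.1
    exact ⟨(⟨s, ha⟩ : stabilizer G a) * t, mul_smul _ _ _⟩
  · have := (edge_smul s).2 hy.2
    rwa [hb] at this

theorem farNear_invariant {s : G} (ha : s • a = a) (hc : s • c = c) {y : V}
    (hy : y ∈ farNear G a b c) : s • y ∈ farNear G a b c := by
  refine ⟨?_, ?_⟩
  · obtain ⟨t, rfl⟩ := hy.1
    exact ⟨(⟨s, ha⟩ : stabilizer G a) * t, mul_smul _ _ _⟩
  · have := (edge_smul s).2 hy.2
    rwa [hc] at this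

theorem farFar_invariant {s : G} (ha : s • a = a) (hc : s • c = c) {y : V}
    (hy : y ∈ farFar G a b c) : s • y ∈ farFar G a b c := by
  refine ⟨?_, ?_⟩
  · obtain ⟨t, rfl⟩ := hy.1
    exact ⟨(⟨s, ha⟩ : stabilizer G a) * t, mul_smul _ _ _⟩
  · have := (edge_smul s).2 hy.2
    rwa [hc] at this

end One

end CfsgLib.RankThreeRecog
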